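import Groth.Agent.KTheory.ExtFiltSheaf
import Groth.Agent.KTheory.KvbModel
import Groth.Agent.KTheory.LambdaVb
import Groth.Agent.PnHodge.Koszul
import Groth.Agent.PicAux.Powers

/-!
# Exterior powers of an extension with invertible kernel

For `0 → L → E → E'' → 0` with `L` invertible there are short exact sequences
`0 → L ⊗ ⋀ᵖ E'' → ⋀ᵖ⁺¹ E → ⋀ᵖ⁺¹ E'' → 0`.
-/

set_option autoImplicit false
set_option linter.style.haveILetI false
universe u

open CategoryTheory CategoryTheory.Limits AlgebraicGeometry TopologicalSpace TensorProduct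

namespace Groth.PnHodgeCI

open Groth.KTheory.ExtFilt exteriorPower

section Algebra

variable {R : Type u} [CommRing R] {M' M M'' : Type u} [AddCommGroup M'] [Module R M']
  [AddCommGroup M] [Module R M] [AddCommGroup M''] [Module R M''] {q : ℕ}
  {f : M' →ₗ[R] M} {g : M →ₗ[R] M''}

theorem map_mu_eq_zero (hfg : Function.Exact f g) (h : 1 + q = q + 1)
    (z : (⋀[R]^1 M') ⊗[R] (⋀[R]^q M)) : exteriorPower.map (q + 1) g (mu f h z) = 0 := by
  induction z using tensor_wedge_induction with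
  | zero => simp
  | add a b ha hb => rw [map_add, map_add, ha, hb, add_zero]
  | smul c a ha => rw [map_smul, map_smul, ha, smul_zero]
  | wedge u v =>
    rw [mu_wedge, map_apply_ιMulti]
    refine AlternatingMap.map_coord_zero _ (Fin.cast h (Fin.castAdd q 0)) ?_
    simp [hfg.apply_apply_eq_zero]

theorem exists_mu_eq (hf : Function.Injective f) (hfg : Function.Exact f g)
    (hg : Function.Surjective g) [Module.Projective R M''] (h : 1 + q = q + 1)
    {y : ⋀[R]^(q + 1) M} (hy : exteriorPower.map (q + 1) g y = 0) : ∃ z, mu f h z = y := by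
  let z₀ : (⋀[R]^0 M') ⊗[R] (⋀[R]^(q + 1) M) := ιMulti R 0 (fun i => i.elim0) ⊗ₜ y
  have hp : pi g z₀ = 0 := by
    rw [pi_tmul, hy, TensorProduct.tmul_zero]
  have he : mu f (zero_add (q + 1)) z₀ = y := by
    refine Subtype.ext ?_
    simp only [z₀, mu, TensorProduct.lift.tmul, LinearMap.comp_apply, map_apply_ιMulti, coe_mulExt,
      ιMulti_apply_coe]
    simp
  obtain ⟨z, hz⟩ := mu_mem_range_succ hf hfg hg (zero_add (q + 1))
    (show 0 + 1 + q = q + 1 by omega) hp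
  exact ⟨z, hz.trans he⟩

theorem mu_eq_zero_iff (hf : Function.Injective f) (hfg : Function.Exact f g)
    (hg : Function.Surjective g) [Module.Projective R M''] [Subsingleton (⋀[R]^2 M')] {n : ℕ}
    (h : 1 + q = n) (z : (⋀[R]^1 M') ⊗[R] (⋀[R]^q M)) : mu f h z = 0 ↔ pi g z = 0 := by
  refine ⟨pi_eq_zero_of_mu hf hfg hg h, fun hz => ?_⟩
  cases q with
  | zero => rw [eq_zero_of_pi_eq_zero hf hfg hg hz, map_zero]
  | succ q =>
    obtain ⟨w, hw⟩ := mu_mem_range_succ hf hfg hg h (show 1 + 1 + q = n by omega) hz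
    rw [← hw]
    have : Subsingleton (⋀[R]^(1 + 1) M') := ‹Subsingleton (⋀[R]^2 M')›
    rw [Subsingleton.elim w 0, map_zero]

end Algebra

open Groth.PicAux Groth.LocFree
open Groth.QCohMod (appₗ)

variable {X : Scheme.{u}}

theorem subsingleton_esec_two {A : X.Modules} (hA : FlatMod.IsFinLocFreeOfRank 1 A) {U : X.Opens}
    (hU : IsAffineOpen U) : Subsingleton (ESec 2 A U) := by
  haveI := KTheory.LocFree.isQCoh (isFinLocFree_of_rank hA)
  have h0 : FlatMod.IsFinLocFreeOfRank 0 (extPow 2 A) := by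
    simpa using isFinLocFreeOfRank_extPow hA 2
  have hz := Groth.KTheory.KvbModel.isZero_of_rank_zero h0
  have : Subsingleton Γ(extPow 2 A, U) := by
    refine subsingleton_of_forall_eq 0 fun x => ?_
    exact congr($(congrArg (fun φ : extPow 2 A ⟶ extPow 2 A => φ.app U)
      ((IsZero.iff_id_eq_zero _).1 hz)) x)
  exact (extEquiv 2 A hU).toEquiv.subsingleton

/-- `0 → L ⊗ ⋀ᵖ E'' → ⋀ᵖ⁺¹ E → ⋀ᵖ⁺¹ E'' → 0`. -/
theorem exists_wedgeSeq (S : ShortComplex X.Modules) (hS : S.ShortExact)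
    (h₁ : FlatMod.IsFinLocFreeOfRank 1 S.X₁) (h₂ : FlatMod.IsFinLocFree S.X₂)
    (h₃ : FlatMod.IsFinLocFree S.X₃) (p : ℕ) :
    ∃ T : ShortComplex X.Modules, T.ShortExact ∧
      Nonempty (T.X₁ ≅ CohB1.tensorMod S.X₁ (extPow p S.X₃)) ∧
      Nonempty (T.X₂ ≅ extPow (p + 1) S.X₂) ∧ Nonempty (T.X₃ ≅ extPow (p + 1) S.X₃) := by
  have := KTheory.LocFree.isQCoh (isFinLocFree_of_rank h₁)
  have := KTheory.LocFree.isQCoh h₂
  have := KTheory.LocFree.isQCoh h₃
  have := isQCoh_extPow 1 S.X₁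
  have := isQCoh_extPow p S.X₂
  have := isQCoh_extPow p S.X₃
  have := isQCoh_extPow (p + 1) S.X₂
  have := isQCoh_extPow (p + 1) S.X₃
  have := Groth.QCohMod.isQCoh_tensorMod (M := extPow 1 S.X₁) (N := extPow p S.X₂)
  have := Groth.QCohMod.isQCoh_tensorMod (M := extPow 1 S.X₁) (N := extPow p S.X₃)
  have h : 1 + p = p + 1 := add_comm 1 p
  obtain ⟨φ, hφ⟩ := exists_phi S.f h
  obtain ⟨π, hπ⟩ := exists_piHom (A := S.X₁) S.g 1 p
  have hcov : ∀ x : X, ∃ U : X.Opens, IsAffineOpen U ∧ x ∈ U := fun x => by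
    obtain ⟨_, ⟨U, hU, rfl⟩, hxU, -⟩ :=
      X.isBasis_affineOpens.exists_subset_of_mem_open (show x ∈ (⊤ : X.Opens) from trivial)
        (⊤ : X.Opens).2
    exact ⟨U, hU, hxU⟩
  haveI : Epi π := Groth.QCohMod.epi_of_affine_surjective π fun U hU y => by
    obtain ⟨-, -, hs⟩ := sections_exact hS hU
    obtain ⟨z, rfl⟩ := (tau 1 p S.X₁ S.X₃ hU).surjective y
    obtain ⟨w, rfl⟩ := LinearMap.lTensor_surjective (ESec 1 S.X₁ U)
      (exteriorPower.map_surjective (n := p) hs) z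
    exact ⟨_, hπ U hU w⟩
  have hiff : ∀ (U : X.Opens) (hU : IsAffineOpen U) z,
      mu (appₗ S.f U) h z = 0 ↔ pi (appₗ S.g U) z = 0 := fun U hU z => by
    have := Groth.LocFree.projective_sections h₃ hU
    have := subsingleton_esec_two h₁ hU
    obtain ⟨hi, he, hs⟩ := sections_exact hS hU
    exact mu_eq_zero_iff hi he hs h z
  have hke : kernel.ι π ≫ φ = 0 := hom_ext_affine fun U hU x => by
    obtain ⟨z, hz⟩ := (tau 1 p S.X₁ S.X₂ hU).surjective ((kernel.ι π).app U x)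
    have h0 : π.app U ((kernel.ι π).app U x) = 0 :=
      congr($(congrArg (fun ψ : kernel π ⟶ _ => ψ.app U) (kernel.condition π)) x)
    rw [← hz, hπ U hU, LinearEquiv.map_eq_zero_iff] at h0
    change φ.app U ((kernel.ι π).app U x) = 0
    rw [← hz, hφ U hU, (hiff U hU z).2 h0, map_zero]
  let ψ : CohB1.tensorMod (extPow 1 S.X₁) (extPow p S.X₃) ⟶ extPow (p + 1) S.X₂ :=
    Abelian.epiDesc π φ hke
  have hψ : ∀ (U : X.Opens) (hU : IsAffineOpen U) z,
      ψ.app U (tau 1 p S.X₁ S.X₃ hU (pi (appₗ S.g U) z)) =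
        extEquiv (p + 1) S.X₂ hU (mu (appₗ S.f U) h z) := fun U hU z => by
    rw [← hπ U hU, ← hφ U hU]
    exact congr($(congrArg (fun χ : CohB1.tensorMod (extPow 1 S.X₁) (extPow p S.X₂) ⟶
      extPow (p + 1) S.X₂ => χ.app U) (Abelian.comp_epiDesc π φ hke)) _)
  have hpi : ∀ (U : X.Opens), IsAffineOpen U →
      Function.Surjective (pi (p := 1) (q := p) (appₗ S.g U)) := fun U hU z => by
    obtain ⟨-, -, hs⟩ := sections_exact hS hU
    exact LinearMap.lTensor_surjective (ESec 1 S.X₁ U) (exteriorPower.map_surjective (n := p) hs) z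
  have hg : ∀ (U : X.Opens) (hU : IsAffineOpen U) y,
      (extHom (p + 1) S.g).app U (extEquiv (p + 1) S.X₂ hU y) =
        extEquiv (p + 1) S.X₃ hU (exteriorPower.map (p + 1) (appₗ S.g U) y) := fun U hU y =>
    Groth.PnHodge.extHom_extUnit (p + 1) S.g U y
  have w : ψ ≫ extHom (p + 1) S.g = 0 := hom_ext_affine fun U hU x => by
    obtain ⟨z, rfl⟩ := (tau 1 p S.X₁ S.X₃ hU).surjective x
    obtain ⟨z, rfl⟩ := hpi U hU z
    change (extHom (p + 1) S.g).app U (ψ.app U _) = 0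
    rw [hψ U hU, hg U hU, map_mu_eq_zero (sections_exact hS hU).2.1 h, map_zero]
  haveI hm : Mono ψ := Groth.OmegaSheaf.mono_of_affine_cover _ fun x => by
    obtain ⟨U, hU, hx⟩ := hcov x
    refine ⟨U, hU, hx, (injective_iff_map_eq_zero (ψ.app U).hom).2 fun a ha => ?_⟩
    obtain ⟨z, rfl⟩ := (tau 1 p S.X₁ S.X₃ hU).surjective a
    obtain ⟨z, rfl⟩ := hpi U hU z
    rw [hψ U hU, LinearEquiv.map_eq_zero_iff] at ha
    rw [(hiff U hU z).1 ha, map_zero]
  haveI he : Epi (extHom (p + 1) S.g) := Groth.QCohMod.epi_of_affine_surjective _ fun U hU y => by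
    obtain ⟨-, -, hs⟩ := sections_exact hS hU
    obtain ⟨z, rfl⟩ := (extEquiv (p + 1) S.X₃ hU).surjective y
    obtain ⟨v, rfl⟩ := exteriorPower.map_surjective (n := p + 1) hs z
    exact ⟨_, hg U hU v⟩
  let T := ShortComplex.mk ψ (extHom (p + 1) S.g) w
  have hT : T.Exact := by
    haveI : T.X₂.IsQuasicoherent := isQCoh_extPow (p + 1) S.X₂
    haveI : T.X₃.IsQuasicoherent := isQCoh_extPow (p + 1) S.X₃
    refine Groth.OmegaSheaf.exact_of_affine_cover _ fun x => ?_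
    obtain ⟨U, hU, hx⟩ := hcov x
    refine ⟨U, hU, hx, fun m hm => ?_⟩
    obtain ⟨y, rfl⟩ := (extEquiv (p + 1) S.X₂ hU).surjective m
    have := Groth.LocFree.projective_sections h₃ hU
    obtain ⟨hi, he, hs⟩ := sections_exact hS hU
    replace hm : extEquiv (p + 1) S.X₃ hU (exteriorPower.map (p + 1) (appₗ S.g U) y) = 0 :=
      (hg U hU y).symm.trans hm
    rw [LinearEquiv.map_eq_zero_iff] at hm
    obtain ⟨z, hz⟩ := exists_mu_eq hi he hs h hm
    exact ⟨tau 1 p S.X₁ S.X₃ hU (pi (appₗ S.g U) z), (hψ U hU z).trans (by rw [hz])⟩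
  obtain ⟨e1⟩ := KTheory.LambdaVb.nonempty_extPow_one S.X₁
  exact ⟨T, { exact := hT, mono_f := hm, epi_g := he },
    ⟨PicGrp.tensorModIso e1 (Iso.refl _)⟩, ⟨Iso.refl _⟩, ⟨Iso.refl _⟩⟩

end Groth.PnHodgeCI
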