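import Mathlib.RingTheory.Binomial
import Mathlib.RingTheory.PowerSeries.Inverse
import Mathlib.RingTheory.PowerSeries.WellKnown

/-!
# The generating series of the χ_y genera of hypersurfaces
-/

set_option autoImplicit false

open Finset

namespace Groth.PnHodgeCI.ChiY

/-- `χ(P^N, O(m))`. -/
noncomputable def hB (N : ℕ) (m : ℤ) : ℤ := Ring.choose (m + N) N

theorem hB_zero_left (m : ℤ) : hB 0 m = 1 := by simp [hB]

theorem hB_succ (N : ℕ) (m : ℤ) : hB (N + 1) m = hB (N + 1) (m - 1) + hB N m := by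
  have h := Ring.choose_succ_succ (m + N) N
  simp only [hB]
  rw [show m + ((N + 1 : ℕ) : ℤ) = m + N + 1 by push_cast; ring, h,
    show m - 1 + ((N + 1 : ℕ) : ℤ) = m + N by push_cast; ring]
  ring

theorem hB_zero_right (N : ℕ) : hB N 0 = 1 := by
  rw [hB, zero_add, Ring.choose_natCast, Nat.choose_self, Nat.cast_one]

theorem hB_neg_of_le (N p : ℕ) (h1 : 1 ≤ p) (h2 : p ≤ N) : hB N (-(p : ℤ)) = 0 := by
  rw [hB, show -(p : ℤ) + N = ((N - p : ℕ) : ℤ) by omega, Ring.choose_natCast,
    Nat.choose_eq_zero_of_lt (by omega), Nat.cast_zero]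

theorem hB_neg_succ (N : ℕ) : hB N (-((N + 1 : ℕ) : ℤ)) = (-1) ^ N := by
  rw [hB, show -((N + 1 : ℕ) : ℤ) + N = -((1 : ℕ) : ℤ) by push_cast; ring, Ring.choose_neg,
    show ((1 : ℕ) : ℤ) + N - 1 = (N : ℤ) by push_cast; ring, Ring.choose_natCast, Nat.choose_self,
    Units.smul_def]
  simp [Int.negOnePow]

open Polynomial in
/-- The polynomial with the given coefficients. -/
theorem exists_poly (f : ℕ → ℤ) (N : ℕ) (h : ∀ p, N < p → f p = 0) :
    ∃ P : Polynomial ℤ, (∀ p, P.coeff p = f p) ∧
      P = ∑ p ∈ range (N + 1), Polynomial.C (f p) * Polynomial.X ^ p := by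
  refine ⟨_, fun p => ?_, rfl⟩
  simp only [finsetSum_coeff, coeff_C_mul_X_pow, sum_ite_eq, mem_range]
  split_ifs with hp
  · rfl
  · exact (h p (by omega)).symm

variable (e : ℕ → ℕ → ℤ → ℤ) (w : ℕ → ℕ → ℤ → ℤ) (a : ℕ)

/-- The hypotheses: `e N p t = χ(P^N, Ω^p(t))` and `w n p t = χ(Y_n, Ω^p(t))`. -/
structure Data : Prop where
  e_zero : ∀ N t, e N 0 t = hB N t
  e_rec : ∀ N p t, e N (p + 1) t + e N p t = (N + 1).choose (p + 1) * hB N (t - (p + 1 : ℕ))
  e_van : ∀ N p t, N < p → e N p t = 0
  w_zero : ∀ n t, w n 0 t = e (n + 1) 0 t - e (n + 1) 0 (t - a)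
  w_rec : ∀ n p t, w n (p + 1) t + w n p (t - a) = e (n + 1) (p + 1) t - e (n + 1) (p + 1) (t - a)
  w_van : ∀ n p t, n < p → w n p t = 0

variable {e w a}

theorem one_add_X_ne_zero : (1 + Polynomial.X : Polynomial ℤ) ≠ 0 := fun h => by
  simpa using congrArg (fun q : Polynomial ℤ => q.coeff 0) h

theorem eq_zero_of_forall_dvd {E : PowerSeries (Polynomial ℤ)}
    (h : ∀ j, PowerSeries.C ((Polynomial.X : Polynomial ℤ) ^ j) ∣ E) : E = 0 := by
  ext1 n
  rw [map_zero]
  refine Polynomial.ext fun d => ?_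
  obtain ⟨F, hF⟩ := h (d + 1)
  rw [hF, PowerSeries.coeff_C_mul, Polynomial.coeff_zero]
  exact Polynomial.X_pow_dvd_iff.1 (dvd_mul_right _ _) d (Nat.lt_succ_self d)

/-- The generating series. -/
theorem main (H : Data e w a) :
    let y : PowerSeries (Polynomial ℤ) := PowerSeries.C Polynomial.X
    let z : PowerSeries (Polynomial ℤ) := PowerSeries.X
    (1 - z) * (1 + y * z) * ((1 + y * z) ^ a + y * (1 - z) ^ a) *
        (z * PowerSeries.mk fun n => ∑ p ∈ range (n + 1), Polynomial.C (w n p 0) * Polynomial.X ^ p) =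
      (1 + y * z) ^ a - (1 - z) ^ a := by
  intro y z
  choose P hP hP' using fun N t => exists_poly (fun p => e N p t) N fun p hp => H.e_van N p t hp
  choose Q hQ hQ' using fun n t => exists_poly (fun p => w n p t) n fun p hp => H.w_van n p t hp
  have hA : ∀ (N : ℕ) (t : ℤ) (p : ℕ), ((1 + Polynomial.X) * P N t).coeff p =
      (N + 1).choose p * hB N (t - (p : ℤ)) := by
    intro N t p
    rw [add_mul, one_mul, Polynomial.coeff_add]
    cases p with
    | zero => simp [hP, H.e_zero]
    | succ p => rw [Polynomial.coeff_X_mul, hP, hP, H.e_rec]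
  have hP0 : ∀ t, P 0 t = 1 := fun t => by
    rw [hP' 0 t]
    simp [H.e_zero, hB_zero_left]
  have hPrec : ∀ N t, P (N + 1) t - P (N + 1) (t - 1) = P N t + Polynomial.X * P N (t - 1) := by
    intro N t
    apply mul_left_cancel₀ one_add_X_ne_zero
    refine Polynomial.ext fun p => ?_
    rw [mul_sub, mul_add, ← mul_assoc _ Polynomial.X, mul_comm _ Polynomial.X, mul_assoc Polynomial.X,
      Polynomial.coeff_sub, Polynomial.coeff_add, hA, hA, hA]
    cases p with
    | zero =>
      rw [Polynomial.coeff_X_mul_zero, hB_succ N (t - ((0 : ℕ) : ℤ))]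
      simp
    | succ p =>
      rw [Polynomial.coeff_X_mul, hA, hB_succ N (t - ((p + 1 : ℕ) : ℤ)),
        Nat.choose_succ_succ (N + 1) p, show t - 1 - (p : ℤ) = t - ((p + 1 : ℕ) : ℤ) by push_cast; ring,
        show t - ((p + 1 : ℕ) : ℤ) - 1 = t - 1 - ((p + 1 : ℕ) : ℤ) by ring]
      push_cast
      ring
  let S : ℤ → PowerSeries (Polynomial ℤ) := fun t => PowerSeries.mk fun N => P N t
  have hS : ∀ t, S t * (1 - z) = S (t - 1) * (1 + y * z) := by
    intro t
    ext1 n
    rw [mul_sub, mul_one, mul_add, mul_one, mul_left_comm, map_sub, map_add]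
    cases n with
    | zero => simp [S, y, z, hP0]
    | succ n =>
      simp only [S, y, z, PowerSeries.coeff_succ_mul_X, PowerSeries.coeff_C_mul, PowerSeries.coeff_mk]
      linear_combination hPrec n t
  have hS0 : (1 - z) * (1 + y * z) * S 0 = 1 := by
    have hC : (PowerSeries.C (1 + Polynomial.X) : PowerSeries (Polynomial ℤ)) ≠ 0 := fun h =>
      one_add_X_ne_zero (PowerSeries.C_injective (h.trans (map_zero _).symm))
    apply mul_left_cancel₀ hC
    have h1 : (PowerSeries.mk fun _ : ℕ => (1 : Polynomial ℤ)) * (1 - z) = 1 :=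
      PowerSeries.mk_one_mul_one_sub_eq_one _
    have h2 : (PowerSeries.mk fun N : ℕ => (-Polynomial.X : Polynomial ℤ) ^ N) * (1 + y * z) = 1 := by
      ext1 n
      rw [mul_add, mul_one, mul_left_comm, map_add, PowerSeries.coeff_one]
      cases n with
      | zero => simp [y, z]
      | succ n =>
        simp only [y, z, PowerSeries.coeff_succ_mul_X, PowerSeries.coeff_C_mul, PowerSeries.coeff_mk,
          pow_succ, Nat.succ_ne_zero, if_false]
        ring
    have h3 : PowerSeries.C (1 + Polynomial.X) * S 0 =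
        (PowerSeries.mk fun _ : ℕ => (1 : Polynomial ℤ)) +
          y * PowerSeries.mk fun N : ℕ => (-Polynomial.X : Polynomial ℤ) ^ N := by
      ext1 N
      simp only [S, y]
      rw [map_add (PowerSeries.coeff N), PowerSeries.coeff_C_mul, PowerSeries.coeff_C_mul,
        PowerSeries.coeff_mk, PowerSeries.coeff_mk, PowerSeries.coeff_mk]
      refine Polynomial.ext fun p => ?_
      rw [hA, neg_pow, Polynomial.coeff_add, Polynomial.coeff_one, mul_left_comm, ← pow_succ',
        ← Polynomial.C_1, ← Polynomial.C_neg, ← Polynomial.C_pow, Polynomial.coeff_C_mul_X_pow]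
      rcases Nat.eq_zero_or_pos p with rfl | hp
      · simp [hB_zero_right]
      rcases lt_trichotomy p (N + 1) with h | rfl | h
      · rw [zero_sub, hB_neg_of_le N p hp (by omega), mul_zero, if_neg (by omega), if_neg (by omega),
          add_zero]
      · rw [zero_sub, hB_neg_succ, Nat.choose_self, if_neg (by omega), if_pos rfl]
        simp
      · rw [Nat.choose_eq_zero_of_lt h, if_neg (by omega), if_neg (by omega)]
        simp
    calc PowerSeries.C (1 + Polynomial.X) * ((1 - z) * (1 + y * z) * S 0)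
        = (1 - z) * (1 + y * z) * (PowerSeries.C (1 + Polynomial.X) * S 0) := by ring
      _ = (1 + y * z) + y * (1 - z) := by
        rw [h3]
        linear_combination (1 + y * z) * h1 + y * (1 - z) * h2
      _ = PowerSeries.C (1 + Polynomial.X) * 1 := by
        rw [mul_one, map_add, map_one]
        ring
  have hSm : ∀ m : ℕ, (1 - z) * (1 + y * z) ^ (m + 1) * S (-(m : ℤ)) = (1 - z) ^ m := by
    intro m
    induction m with
    | zero => simpa using hS0
    | succ m ih =>
      rw [show -((m + 1 : ℕ) : ℤ) = -(m : ℤ) - 1 by push_cast; ring]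
      linear_combination (1 - z) * ih - (1 - z) * (1 + y * z) ^ (m + 1) * hS (-(m : ℤ))
  let T : ℤ → PowerSeries (Polynomial ℤ) := fun t => z * PowerSeries.mk fun n => Q n t
  have hT : ∀ t, T t + y * T (t - a) = S t - S (t - a) := by
    intro t
    ext1 n
    cases n with
    | zero => simp [T, S, y, z, hP0]
    | succ n =>
      simp only [T, S, y, z, map_add, map_sub, PowerSeries.coeff_C_mul, PowerSeries.coeff_succ_X_mul,
        PowerSeries.coeff_mk]
      refine Polynomial.ext fun p => ?_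
      rw [Polynomial.coeff_add, Polynomial.coeff_sub, hQ, hP, hP]
      cases p with
      | zero => rw [Polynomial.coeff_X_mul_zero, add_zero, H.w_zero]
      | succ p => rw [Polynomial.coeff_X_mul, hQ, H.w_rec]
  set K := (1 + y * z) ^ a + y * (1 - z) ^ a with hK
  set B := (1 + y * z) ^ a - (1 - z) ^ a with hB'
  let E : ℕ → PowerSeries (Polynomial ℤ) := fun m =>
    (1 - z) * (1 + y * z) ^ (m + 1) * T (-(m : ℤ)) * K - (1 - z) ^ m * B
  have hE : ∀ m, E m * (1 + y * z) ^ a + y * E (m + a) = 0 := by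
    intro m
    have h := hT (-(m : ℤ))
    rw [show -(m : ℤ) - a = -((m + a : ℕ) : ℤ) by push_cast; ring] at h
    have e1 := hSm m
    have e2 := hSm (m + a)
    simp only [E, hK, hB']
    linear_combination ((1 - z) * (1 + y * z) ^ (m + 1) * (1 + y * z) ^ a *
      ((1 + y * z) ^ a + y * (1 - z) ^ a)) * h +
      ((1 + y * z) ^ a * ((1 + y * z) ^ a + y * (1 - z) ^ a)) * e1 -
      ((1 + y * z) ^ a + y * (1 - z) ^ a) * e2
  have hu : IsUnit ((1 + y * z) ^ a) := (PowerSeries.isUnit_iff_constantCoeff.2 (by simp [y, z])).pow a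
  have hdvd : ∀ j m, PowerSeries.C ((Polynomial.X : Polynomial ℤ) ^ j) ∣ E m := by
    intro j
    induction j with
    | zero => intro m; simp
    | succ j ih =>
      intro m
      obtain ⟨F, hF⟩ := ih (m + a)
      refine hu.dvd_mul_right.1 ⟨-F, ?_⟩
      rw [pow_succ, map_mul]
      linear_combination hE m - y * hF
  have h0 := eq_zero_of_forall_dvd fun j => hdvd j 0
  simp only [E, Nat.cast_zero, neg_zero, zero_add, pow_one, pow_zero, one_mul, sub_eq_zero] at h0
  rw [← h0, show (fun n => ∑ p ∈ range (n + 1), Polynomial.C (w n p 0) * Polynomial.X ^ p) =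
    fun n => Q n 0 from funext fun n => (hQ' n 0).symm]
  change _ = (1 - z) * (1 + y * z) * (z * PowerSeries.mk fun n => Q n 0) * K
  ring

end Groth.PnHodgeCI.ChiY
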