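import Groth.Agent.PnCI.Cohomology
import Groth.Agent.PnHodge.Bott

/-!
# Cohomology of the restricted twisted differentials on complete intersections
-/

set_option linter.style.haveILetI false
set_option backward.isDefEq.respectTransparency.types false

universe u

open CategoryTheory CategoryTheory.Limits AlgebraicGeometry TopologicalSpace
open Groth.PicAux

namespace Groth.PnHodgeCI

section Seq

variable (A : Type u) [CommRing A] {X : Scheme.{u}} [X.Over (Spec (CommRingCat.of A))]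
  {S : ShortComplex X.Modules} (hS : S.ShortExact) (i : ℕ)

include A hS in
theorem subsingleton_mid (h1 : Subsingleton (Coh.HH X S.X₁ i))
    (h3 : Subsingleton (Coh.HH X S.X₃ i)) : Subsingleton (Coh.HH X S.X₂ i) := by
  refine subsingleton_of_forall_eq 0 fun x => ?_
  obtain ⟨y, rfl⟩ := (EulerDeg.exact_mid A hS i x).1 (@Subsingleton.elim _ h3 _ _)
  rw [@Subsingleton.elim _ h1 y 0]
  exact map_zero (EulerDeg.hMap A S.f i)

include A hS in
theorem subsingleton_right (h2 : Subsingleton (Coh.HH X S.X₂ i))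
    (h1 : Subsingleton (Coh.HH X S.X₁ (i + 1))) : Subsingleton (Coh.HH X S.X₃ i) := by
  refine subsingleton_of_forall_eq 0 fun x => ?_
  obtain ⟨y, rfl⟩ := (EulerDeg.exact_right A hS i x).1 (@Subsingleton.elim _ h1 _ _)
  rw [@Subsingleton.elim _ h2 y 0]
  exact map_zero (EulerDeg.hMap A S.g i)

include A hS in
theorem subsingleton_left (h2 : Subsingleton (Coh.HH X S.X₂ (i + 1)))
    (h3 : Subsingleton (Coh.HH X S.X₃ i)) : Subsingleton (Coh.HH X S.X₁ (i + 1)) := by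
  refine subsingleton_of_forall_eq 0 fun x => ?_
  obtain ⟨y, rfl⟩ := (EulerDeg.exact_left A hS i x).1 (@Subsingleton.elim _ h2 _ _)
  rw [@Subsingleton.elim _ h3 y 0]
  exact map_zero (EulerDeg.hDelta A hS i)

include A hS in
/-- `H^i(S.X₂) ≅ H^i(S.X₃)`. -/
theorem nonempty_equiv_right (h1 : Subsingleton (Coh.HH X S.X₁ i))
    (h1' : Subsingleton (Coh.HH X S.X₁ (i + 1))) :
    Nonempty (Coh.HH X S.X₂ i ≃ₗ[A] Coh.HH X S.X₃ i) := by
  refine ⟨LinearEquiv.ofBijective (EulerDeg.hMap A S.g i)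
    ⟨(injective_iff_map_eq_zero _).2 fun x hx => ?_, fun x =>
      (EulerDeg.exact_right A hS i x).1 (@Subsingleton.elim _ h1' _ _)⟩⟩
  obtain ⟨y, rfl⟩ := (EulerDeg.exact_mid A hS i x).1 hx
  rw [@Subsingleton.elim _ h1 y 0]
  exact map_zero (EulerDeg.hMap A S.f i)

include A hS in
/-- `H^i(S.X₃) ≅ H^{i+1}(S.X₁)`. -/
theorem nonempty_equiv_delta (h2 : Subsingleton (Coh.HH X S.X₂ i))
    (h2' : Subsingleton (Coh.HH X S.X₂ (i + 1))) :
    Nonempty (Coh.HH X S.X₃ i ≃ₗ[A] Coh.HH X S.X₁ (i + 1)) := by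
  refine ⟨LinearEquiv.ofBijective (EulerDeg.hDelta A hS i)
    ⟨(injective_iff_map_eq_zero _).2 fun x hx => ?_, fun x =>
      (EulerDeg.exact_left A hS i x).1 (@Subsingleton.elim _ h2' _ _)⟩⟩
  obtain ⟨y, rfl⟩ := (EulerDeg.exact_right A hS i x).1 hx
  rw [@Subsingleton.elim _ h2 y 0]
  exact map_zero (EulerDeg.hMap A S.g i)

include A hS in
/-- `H^{i+1}(S.X₁) ≅ H^{i+1}(S.X₂)`. -/
theorem nonempty_equiv_left (h3 : Subsingleton (Coh.HH X S.X₃ i))
    (h3' : Subsingleton (Coh.HH X S.X₃ (i + 1))) :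
    Nonempty (Coh.HH X S.X₁ (i + 1) ≃ₗ[A] Coh.HH X S.X₂ (i + 1)) := by
  refine ⟨LinearEquiv.ofBijective (EulerDeg.hMap A S.f (i + 1))
    ⟨(injective_iff_map_eq_zero _).2 fun x hx => ?_, fun x =>
      (EulerDeg.exact_mid A hS (i + 1) x).1 (@Subsingleton.elim _ h3' _ _)⟩⟩
  obtain ⟨y, rfl⟩ := (EulerDeg.exact_left A hS i x).1 hx
  rw [@Subsingleton.elim _ h3 y 0]
  exact map_zero (EulerDeg.hDelta A hS i)

end Seq

variable {k : Type u} [Field k] {n : ℕ}

local notation "ℙ" => CohB1.ProjSpace n k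
local notation "O(" d ")" => Twist.twistProjSpace n k d
local notation "Ω(" q ", " t ")" => PnHodge.omegaTw n k q t

theorem isFinLocFree_omegaTw (q : ℕ) (t : ℤ) : FlatMod.IsFinLocFree (Ω(q, t)) :=
  Groth.LocFree.isFinLocFree_tensorMod
    (Groth.LocFree.isFinLocFree_extPow
      (Groth.LocFree.isFinLocFree_of_rank PnEuler.isFinLocFreeOfRank_omega) q)
    (Groth.LocFree.isFinLocFree_of_rank
      (Groth.LocFree.isInvertible_iff_ofRank_one.1 (Groth.PnCoh.isInvertible_twist n k t)))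

theorem nonempty_twist_omegaTw (q : ℕ) (s t c : ℤ) (h : s + t = c) :
    Nonempty (CohB1.tensorMod O(s) (Ω(q, t)) ≅ Ω(q, c)) := by
  obtain ⟨b, -⟩ := exists_braiding O(s) (Ω(q, t))
  obtain ⟨al, -⟩ := exists_associator
    (Groth.LocFree.extPow q (Omega.sheaf (CohB1.ProjSpace.toSpec n k))) O(t) O(s)
  obtain ⟨e⟩ := Groth.Duality.Pn.nonempty_twist_tensor n k t s
  exact ⟨b ≪≫ al ≪≫ PicGrp.tensorModIso (Iso.refl _)
    (e ≪≫ eqToIso (congrArg (Twist.twistProjSpace n k) (by omega)))⟩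

/-- The sequence cutting `V(G₀, …, G_{r-1})` by `G_r`, tensored with `Ω^q(t)`. -/
theorem exists_omegaCutSeq {r : ℕ} {a : Fin (r + 1) → ℕ} (ha : ∀ j, 0 < a j)
    {G : ∀ j, LefPen.Form n k (a j)} (h : PnCI.Good G) (q : ℕ) (t : ℤ) :
    ∃ S : ShortComplex (ℙ).Modules, S.ShortExact ∧
      Nonempty (S.X₁ ≅ PnCI.rest (LefPen.ciIdeal fun j : Fin r => G j.castSucc).subschemeι
        (Ω(q, t - (a (Fin.last r) : ℤ)))) ∧
      Nonempty (S.X₂ ≅ PnCI.rest (LefPen.ciIdeal fun j : Fin r => G j.castSucc).subschemeι (Ω(q, t))) ∧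
      Nonempty (S.X₃ ≅ PnCI.rest (LefPen.ciIdeal G).subschemeι (Ω(q, t))) := by
  set ι := (LefPen.ciIdeal fun j : Fin r => G j.castSucc).subschemeι
  set J := (LefPen.hypIdeal (G (Fin.last r))).comap ι with hJ
  have hF : FlatMod.IsFinLocFree ((Scheme.Modules.pullback ι).obj (Ω(q, t))) :=
    Groth.LocFree.isFinLocFree_pullback ι (isFinLocFree_omegaTw q t)
  obtain ⟨S, hS, ⟨e1⟩, ⟨e2⟩, ⟨e3⟩⟩ := PnHyper.exists_subschemeSeq J hF
  obtain ⟨eI⟩ := PnCI.nonempty_idealMod_step ha h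
  obtain ⟨et⟩ := nonempty_twist_omegaTw (n := n) (k := k) q (-(a (Fin.last r) : ℤ)) t
    (t - (a (Fin.last r) : ℤ)) (by ring)
  obtain ⟨ep, -⟩ := exists_pullback_tensorMod ι O(-(a (Fin.last r) : ℤ)) (Ω(q, t))
  obtain ⟨c⟩ := PnCI.nonempty_rest_comp J.subschemeι ι (Ω(q, t))
  obtain ⟨c'⟩ := PnCI.nonempty_rest_congr (J.subschemeι ≫ ι) (LefPen.ciIdeal G).subschemeι
    ((PnCI.ker_step (G := G)).trans (Scheme.IdealSheafData.ker_subschemeι _).symm) (Ω(q, t))
  refine ⟨S.map (Scheme.Modules.pushforward ι), CohC3.shortExact_push_closed ι hS, ⟨?_⟩,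
    ⟨(Scheme.Modules.pushforward ι).mapIso e2⟩,
    ⟨(Scheme.Modules.pushforward ι).mapIso e3 ≪≫ c ≪≫ c'⟩⟩
  exact (Scheme.Modules.pushforward ι).mapIso (e1 ≪≫ PicGrp.tensorModIso eI (Iso.refl _) ≪≫ ep.symm ≪≫
    (Scheme.Modules.pullback ι).mapIso et)

set_option quotPrecheck false in
local notation "H(" i ", " G ", " q ", " t ")" =>
  Coh.HH (CohB1.ProjSpace n k) (PnCI.rest (LefPen.ciIdeal G).subschemeι (Ω(q, t))) i

theorem nonempty_rest_zero {a : Fin 0 → ℕ} (G : ∀ j, LefPen.Form n k (a j)) (F : (ℙ).Modules) :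
    Nonempty (F ≅ PnCI.rest (LefPen.ciIdeal G).subschemeι F) := by
  have h0 : (LefPen.ciIdeal G) = ⊥ := iSup_of_empty _
  let s := IsClosedImmersion.lift (LefPen.ciIdeal G).subschemeι (𝟙 ℙ)
    (by rw [Scheme.IdealSheafData.ker_subschemeι, h0]; exact bot_le)
  have hs : s ≫ (LefPen.ciIdeal G).subschemeι = 𝟙 ℙ := IsClosedImmersion.lift_fac _ _ _
  haveI : IsIso (LefPen.ciIdeal G).subschemeι := ⟨s,
    by rw [← cancel_mono (LefPen.ciIdeal G).subschemeι, Category.assoc, hs, Category.comp_id,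
      Category.id_comp], hs⟩
  haveI := PnCI.isIso_unit_of_isIso (LefPen.ciIdeal G).subschemeι F
  exact ⟨asIso ((Scheme.Modules.pullbackPushforwardAdjunction
    (LefPen.ciIdeal G).subschemeι).unit.app F)⟩

/-- Below the dimension, for twists `t ≤ 0`. -/
theorem low : ∀ (r : ℕ) (a : Fin r → ℕ), (∀ j, 0 < a j) →
    ∀ G : ∀ j, LefPen.Form n k (a j), PnCI.Good G →
    (∀ (q i : ℕ) (t : ℤ), i < n - r → t ≤ 0 → ¬ (t = 0 ∧ i = q) → Subsingleton H(i, G, q, t)) ∧
    (∀ q : ℕ, q < n - r → Nonempty (H(q, G, q, 0) ≃ₗ[k] k)) := by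
  intro r
  induction r with
  | zero =>
    intro a _ G _
    refine ⟨fun q i t hi ht h => ?_, fun q hq => ?_⟩
    · obtain ⟨e⟩ := nonempty_rest_zero G (Ω(q, t))
      exact PnCI.subsingleton_congr e.symm i
        (PnHodge.subsingleton_omegaTw n k q i t (by omega) (by omega) (by omega))
    · obtain ⟨e⟩ := nonempty_rest_zero G (Ω(q, 0))
      obtain ⟨d⟩ := PnHodge.nonempty_diag_equiv n k q (by omega)
      exact ⟨(EulerDeg.hEquiv k e.symm q).trans d⟩
  | succ r ih =>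
    intro a ha G h
    obtain ⟨hv, hd⟩ := ih (fun j => a j.castSucc) (fun j => ha j.castSucc)
      (fun j => G j.castSucc) (PnCI.good_init ha h)
    refine ⟨fun q i t hi ht hne => ?_, fun q hq => ?_⟩
    · obtain ⟨S, hS, ⟨e1⟩, ⟨e2⟩, ⟨e3⟩⟩ := exists_omegaCutSeq ha h q t
      have := ha (Fin.last r)
      exact PnCI.subsingleton_congr e3.symm i (subsingleton_right k hS i
        (PnCI.subsingleton_congr e2 i (hv q i t (by omega) ht hne))
        (PnCI.subsingleton_congr e1 (i + 1) (hv q (i + 1) _ (by omega) (by omega) (by omega))))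
    · obtain ⟨S, hS, ⟨e1⟩, ⟨e2⟩, ⟨e3⟩⟩ := exists_omegaCutSeq ha h q 0
      have := ha (Fin.last r)
      obtain ⟨d⟩ := hd q (by omega)
      obtain ⟨e⟩ := nonempty_equiv_right k hS q
        (PnCI.subsingleton_congr e1 q (hv q q _ (by omega) (by omega) (by omega)))
        (PnCI.subsingleton_congr e1 (q + 1) (hv q (q + 1) _ (by omega) (by omega) (by omega)))
      exact ⟨((EulerDeg.hEquiv k e3.symm q).trans e.symm).trans ((EulerDeg.hEquiv k e2 q).trans d)⟩

/-- Positive degrees, for twists at least the sum of the degrees of the equations. -/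
theorem high : ∀ (r : ℕ) (a : Fin r → ℕ), (∀ j, 0 < a j) →
    ∀ G : ∀ j, LefPen.Form n k (a j), PnCI.Good G →
    (∀ (q i : ℕ) (t : ℤ), 0 < i → (∑ j, (a j : ℤ)) ≤ t →
      ¬ (t = ∑ j, (a j : ℤ) ∧ i + r = q) → Subsingleton H(i, G, q, t)) ∧
    (∀ i : ℕ, 0 < i → i + r ≤ n → Nonempty (H(i, G, i + r, ∑ j, (a j : ℤ)) ≃ₗ[k] k)) := by
  intro r
  induction r with
  | zero =>
    intro a _ G _
    refine ⟨fun q i t hi ht h => ?_, fun i hi hn => ?_⟩
    · rw [Finset.univ_eq_empty, Finset.sum_empty] at ht h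
      obtain ⟨e⟩ := nonempty_rest_zero G (Ω(q, t))
      refine PnCI.subsingleton_congr e.symm i ?_
      by_cases hq : n < q
      · exact PnHodge.subsingleton_of_lt_p n k hq t i
      · exact PnHodge.subsingleton_omegaTw n k q i t (by omega) (by omega) (by omega)
    · rw [Finset.univ_eq_empty, Finset.sum_empty]
      obtain ⟨e⟩ := nonempty_rest_zero G (Ω(i + 0, (0 : ℤ)))
      obtain ⟨d⟩ := PnHodge.nonempty_diag_equiv n k i (by omega)
      exact ⟨(EulerDeg.hEquiv k e.symm i).trans d⟩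
  | succ r ih =>
    intro a ha G h
    obtain ⟨hv, hd⟩ := ih (fun j => a j.castSucc) (fun j => ha j.castSucc)
      (fun j => G j.castSucc) (PnCI.good_init ha h)
    have hs := Fin.sum_univ_castSucc fun j : Fin (r + 1) => (a j : ℤ)
    have hl := ha (Fin.last r)
    refine ⟨fun q i t hi ht hne => ?_, fun i hi hn => ?_⟩
    · obtain ⟨S, hS, ⟨e1⟩, ⟨e2⟩, ⟨e3⟩⟩ := exists_omegaCutSeq ha h q t
      exact PnCI.subsingleton_congr e3.symm i (subsingleton_right k hS i
        (PnCI.subsingleton_congr e2 i (hv q i t hi (by omega) (by omega)))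
        (PnCI.subsingleton_congr e1 (i + 1) (hv q (i + 1) _ (by omega) (by omega) (by omega))))
    · obtain ⟨S, hS, ⟨e1⟩, ⟨e2⟩, ⟨e3⟩⟩ := exists_omegaCutSeq ha h (i + (r + 1)) (∑ j, (a j : ℤ))
      obtain ⟨d⟩ := hd (i + 1) (by omega) (by omega)
      obtain ⟨e⟩ := nonempty_equiv_delta k hS i
        (PnCI.subsingleton_congr e2 i (hv _ i _ hi (by omega) (by omega)))
        (PnCI.subsingleton_congr e2 (i + 1) (hv _ (i + 1) _ (by omega) (by omega) (by omega)))
      refine ⟨((EulerDeg.hEquiv k e3.symm i).trans e).trans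
        ((EulerDeg.hEquiv k (e1 ≪≫ eqToIso ?_) (i + 1)).trans d)⟩
      rw [show i + (r + 1) = i + 1 + r by omega,
        show (∑ j, (a j : ℤ)) - (a (Fin.last r) : ℤ) = ∑ j : Fin r, (a j.castSucc : ℤ) by omega]

end Groth.PnHodgeCI
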