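import Groth.Agent.PnHodgeCI.Main
import Groth.Agent.PnHodgeCI.ChiY
import Groth.Agent.PnHodge.Dim
import Groth.Agent.PnCoh.Euler
import Groth.Agent.EulerDeg.Coherent
import Groth.Agent.CohTwo.ProjHilbert

/-!
# Euler characteristics of the twisted differentials of hypersurfaces
-/

set_option linter.style.haveILetI false
set_option backward.isDefEq.respectTransparency.types false

universe u

open CategoryTheory CategoryTheory.Limits AlgebraicGeometry TopologicalSpace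
open Groth.PicAux

namespace Groth.PnHodgeCI

variable {k : Type u} [Field k]

/-- `χ(P^N, Ω^p(t))`. -/
noncomputable def chiP (k : Type u) [Field k] (N p : ℕ) (t : ℤ) : ℤ :=
  Curv2.euler k (CohB1.ProjSpace N k) (PnHodge.omegaTw N k p t)

theorem euler_of_lt {N : ℕ} {M : (CohB1.ProjSpace N k).Modules} (hM : Coh.IsQCoh M) :
    Curv2.euler k (CohB1.ProjSpace N k) M = ∑ q ∈ Finset.range (N + 1),
      (-1 : ℤ) ^ q * (Module.finrank k (Coh.HH (CohB1.ProjSpace N k) M q) : ℤ) :=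
  EulerDeg.euler_eq_sum fun q hq => Groth.PnCoh.subsingleton_HH_of_lt N k M (by omega)

theorem euler_twist (N : ℕ) (m : ℤ) :
    Curv2.euler k (CohB1.ProjSpace N k) (Twist.twistProjSpace N k m) = ChiY.hB N m := by
  rw [euler_of_lt (M := Twist.twistProjSpace N k m) (KTheory.LocFree.isQCoh
    (Groth.LocFree.isFinLocFree_of_rank (Groth.LocFree.isInvertible_iff_ofRank_one.1
      (Groth.PnCoh.isInvertible_twist N k m))))]
  exact Groth.PnCoh.euler_twist k N m

theorem finCoh_omegaTw (N p : ℕ) (t : ℤ) : EulerDeg.FinCoh k (PnHodge.omegaTw N k p t) := by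
  haveI : IsProper (CohB1.ProjSpace N k ↘ Spec (CommRingCat.of k)) :=
    Groth.Variety2.isProper_projSpace_toSpec N k
  exact EulerDeg.finCoh k _ (KTheory.LocFree.isCoh (isFinLocFree_omegaTw p t))

theorem chiP_zero (N : ℕ) (t : ℤ) : chiP k N 0 t = ChiY.hB N t := by
  obtain ⟨e⟩ := PnHodge.nonempty_omegaTw_zero N k t
  rw [chiP, EulerDeg.euler_congr k e, euler_twist]

theorem chiP_van {N p : ℕ} (hp : N < p) (t : ℤ) : chiP k N p t = 0 :=
  EulerDeg.euler_of_isZero fun q => PnHodge.subsingleton_of_lt_p N k hp t q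

theorem chiP_rec (N p : ℕ) (t : ℤ) :
    chiP k N (p + 1) t + chiP k N p t =
      (N + 1).choose (p + 1) * ChiY.hB N (t - (p + 1 : ℕ)) := by
  have hS := PnHodge.shortExact_twSeq N k p t
  have h := EulerDeg.euler_add hS (finCoh_omegaTw N (p + 1) t) (finCoh_omegaTw N p t)
  refine h.symm.trans ?_
  haveI := PnHodge.finite_twist N k (t - (p + 1 : ℕ))
  have hmid : Coh.IsQCoh (PnHodge.midTw N k (p + 1) t) :=
    KTheory.LocFree.isQCoh (KTheory.LocFree.isFinLocFree_of_shortExact hS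
      (isFinLocFree_omegaTw (p + 1) t) (isFinLocFree_omegaTw p t))
  rw [← euler_twist (k := k) N, euler_of_lt (KTheory.LocFree.isQCoh
    (Groth.LocFree.isFinLocFree_of_rank (Groth.LocFree.isInvertible_iff_ofRank_one.1
      (Groth.PnCoh.isInvertible_twist N k _)))), Finset.mul_sum]
  refine (euler_of_lt (M := PnHodge.midTw N k (p + 1) t) hmid).trans (Finset.sum_congr rfl fun q _ => ?_)
  rw [PnHodge.finrank_mid]
  push_cast
  ring

variable {Y : Scheme.{u}} [Y.Over (Spec (CommRingCat.of k))] {N : ℕ}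
  (ι : Y ⟶ CohB1.ProjSpace N k) [IsClosedImmersion ι]

theorem euler_pullback (hι : Y ↘ Spec (CommRingCat.of k) = ι ≫ CohB1.ProjSpace.toSpec N k)
    (F : (CohB1.ProjSpace N k).Modules) :
    Curv2.euler k Y ((Scheme.Modules.pullback ι).obj F) =
      Curv2.euler k (CohB1.ProjSpace N k) (PnCI.rest ι F) :=
  finsum_congr fun q => by rw [(nonempty_equiv_rest ι hι F q).some.finrank_eq]

theorem finCoh_twExt (hι : Y ↘ Spec (CommRingCat.of k) = ι ≫ CohB1.ProjSpace.toSpec N k)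
    {E : Y.Modules} (hE : FlatMod.IsFinLocFree E) (p : ℕ) (t : ℤ) :
    EulerDeg.FinCoh k (twExt ι E p t) := by
  haveI : IsProper (CohB1.ProjSpace.toSpec N k) := Groth.Variety2.isProper_projSpace_toSpec N k
  haveI : IsProper (Y ↘ Spec (CommRingCat.of k)) := by rw [hι]; infer_instance
  exact EulerDeg.finCoh k _ (KTheory.LocFree.isCoh (Groth.LocFree.isFinLocFree_tensorMod
    (Groth.LocFree.isFinLocFree_extPow hE p) (Groth.LocFree.isFinLocFree_of_rank
      (Groth.LocFree.isInvertible_iff_ofRank_one.1 (isInvertible_pullTwist ι t)))))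

/-- Restriction to a hypersurface. -/
theorem euler_rest {a : Fin 1 → ℕ} (ha : ∀ j, 0 < a j) (G : ∀ j, LefPen.Form N k (a j))
    (h : PnCI.Good G) [(LefPen.ciIdeal G).subscheme.Over (Spec (CommRingCat.of k))]
    (hι : (LefPen.ciIdeal G).subscheme ↘ Spec (CommRingCat.of k) =
      (LefPen.ciIdeal G).subschemeι ≫ CohB1.ProjSpace.toSpec N k) (q : ℕ) (t : ℤ) :
    Curv2.euler k (LefPen.ciIdeal G).subscheme (twExt (LefPen.ciIdeal G).subschemeι
      ((Scheme.Modules.pullback (LefPen.ciIdeal G).subschemeι).obj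
        (Omega.sheaf (CohB1.ProjSpace.toSpec N k))) q t) =
      chiP k N q t - chiP k N q (t - (a 0 : ℤ)) := by
  obtain ⟨e⟩ := nonempty_twExt_pullback (LefPen.ciIdeal G).subschemeι q t
  rw [EulerDeg.euler_congr k e, euler_pullback _ hι]
  obtain ⟨S, hS, ⟨e1⟩, ⟨e2⟩, ⟨e3⟩⟩ := exists_omegaCutSeq ha h q t
  obtain ⟨z1⟩ := nonempty_rest_zero (fun j : Fin 0 => G j.castSucc)
    (PnHodge.omegaTw N k q (t - (a (Fin.last 0) : ℤ)))
  obtain ⟨z2⟩ := nonempty_rest_zero (fun j : Fin 0 => G j.castSucc) (PnHodge.omegaTw N k q t)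
  have f1 := (finCoh_omegaTw (k := k) N q (t - (a (Fin.last 0) : ℤ))).of_iso (z1 ≪≫ e1.symm)
  have f2 := (finCoh_omegaTw (k := k) N q t).of_iso (z2 ≪≫ e2.symm)
  have hadd := EulerDeg.euler_add hS f1 (EulerDeg.FinCoh.right hS f1 f2)
  rw [EulerDeg.euler_congr k (e1 ≪≫ z1.symm), EulerDeg.euler_congr k (e2 ≪≫ z2.symm),
    EulerDeg.euler_congr k e3] at hadd
  rw [show (a 0 : ℤ) = a (Fin.last 0) from rfl, chiP, chiP]
  linarith

/-- The recursion for the twisted differentials of a smooth hypersurface. -/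
theorem euler_omega_rec {n : ℕ} {a : Fin 1 → ℕ} (ha : ∀ j, 0 < a j)
    (G : ∀ j, LefPen.Form (n + 1) k (a j))
    [SmoothOfRelativeDimension n ((LefPen.ciIdeal G).subschemeι ≫ CohB1.ProjSpace.toSpec (n + 1) k)]
    [(LefPen.ciIdeal G).subscheme.Over (Spec (CommRingCat.of k))]
    (hι : (LefPen.ciIdeal G).subscheme ↘ Spec (CommRingCat.of k) =
      (LefPen.ciIdeal G).subschemeι ≫ CohB1.ProjSpace.toSpec (n + 1) k)
    (w : ℕ → ℤ → ℤ) (hw : ∀ p t, w p t = Curv2.euler k (LefPen.ciIdeal G).subscheme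
      (twExt (LefPen.ciIdeal G).subschemeι
        (Omega.sheaf ((LefPen.ciIdeal G).subschemeι ≫ CohB1.ProjSpace.toSpec (n + 1) k)) p t)) :
    (∀ t : ℤ, w 0 t = chiP k (n + 1) 0 t - chiP k (n + 1) 0 (t - (a 0 : ℤ))) ∧
    (∀ (p : ℕ) (t : ℤ), w (p + 1) t + w p (t - (a 0 : ℤ)) =
      chiP k (n + 1) (p + 1) t - chiP k (n + 1) (p + 1) (t - (a 0 : ℤ))) ∧
    (∀ (p : ℕ) (t : ℤ), n < p → w p t = 0) := by
  have h := good_of_smooth (N := n + 1) (n := n) rfl ha G
  haveI := Groth.Duality.Pn.smooth_toSpec (n + 1) k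
  haveI : Smooth ((LefPen.ciIdeal G).subschemeι ≫ CohB1.ProjSpace.toSpec (n + 1) k) :=
    SmoothOfRelativeDimension.smooth n _
  obtain ⟨φ, c, hz, hS⟩ := Groth.Duality.FundLocal.exists_conormal_ses
    (CohB1.ProjSpace.toSpec (n + 1) k)
    ((LefPen.ciIdeal G).subschemeι ≫ CohB1.ProjSpace.toSpec (n + 1) k) (LefPen.ciIdeal G).subschemeι rfl
  obtain ⟨e⟩ := PnCI.nonempty_conormal ha G h
  have h₂ : FlatMod.IsFinLocFree ((Scheme.Modules.pullback (LefPen.ciIdeal G).subschemeι).obj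
      (Omega.sheaf (CohB1.ProjSpace.toSpec (n + 1) k))) := Groth.LocFree.isFinLocFree_pullback _
    (Groth.LocFree.isFinLocFree_of_rank PnEuler.isFinLocFreeOfRank_omega)
  have h₃' := Groth.OmegaSheaf.isFinLocFreeOfRank_sheaf
    ((LefPen.ciIdeal G).subschemeι ≫ CohB1.ProjSpace.toSpec (n + 1) k) n
  have h₃ := Groth.LocFree.isFinLocFree_of_rank h₃'
  have hb := fun q t => euler_rest ha G h hι q t
  refine ⟨fun t => ?_, fun p t => ?_, fun p t hp => ?_⟩
  · obtain ⟨e0⟩ := nonempty_twExt_zero (LefPen.ciIdeal G).subschemeι h₃ h₂ t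
    rw [hw]
    exact (EulerDeg.euler_congr k e0).trans (hb 0 t)
  · obtain ⟨U, hU, ⟨f1⟩, ⟨f2⟩, ⟨f3⟩⟩ := exists_twSeq (LefPen.ciIdeal G).subschemeι
      (S := ShortComplex.mk φ c hz) hS (e ≪≫ coproductUniqueIso _) h₂ h₃ p t
    have hadd := EulerDeg.euler_add hU ((finCoh_twExt _ hι h₃ p _).of_iso f1.symm)
      ((finCoh_twExt _ hι h₃ (p + 1) t).of_iso f3.symm)
    rw [EulerDeg.euler_congr k f1, EulerDeg.euler_congr k f2, EulerDeg.euler_congr k f3,
      hb (p + 1) t, ← hw, ← hw] at hadd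
    rw [add_comm]
    exact hadd.symm
  · rw [hw]
    refine EulerDeg.euler_of_isZero fun q =>
      subsingleton_of_isZero (LefPen.ciIdeal G).subschemeι
        (Functor.map_isZero _ (KTheory.KvbModel.isZero_of_rank_zero ?_)) q
    have h0 := Groth.LocFree.isFinLocFreeOfRank_extPow h₃' p
    rwa [Nat.choose_eq_zero_of_lt hp] at h0

end Groth.PnHodgeCI
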