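import Groth.Agent.PnHodgeCI.Wedge
import Groth.Agent.PnHodgeCI.Cut
import Groth.Agent.PnHyper.Lift
import Groth.Agent.PicAux.PicLaw
import Groth.Agent.KTheory.LocFree

/-!
# Cohomology of exterior powers along a filtration by line bundles
-/

set_option linter.style.haveILetI false
set_option backward.isDefEq.respectTransparency.types false

universe u

open CategoryTheory CategoryTheory.Limits AlgebraicGeometry TopologicalSpace
open Groth.PicAux

attribute [local instance] HasFiniteBiproducts.of_hasFiniteProducts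

namespace Groth.PnHodgeCI

section Ext

variable {X : Scheme.{u}} {M₁ M₂ E B : X.Modules}

open CategoryTheory.Abelian in
/-- Peel the first summand off the kernel of an extension. -/
theorem exists_peel (f : M₁ ⊞ M₂ ⟶ E) (g : E ⟶ B) (w : f ≫ g = 0)
    (hS : (ShortComplex.mk f g w).ShortExact) :
    ∃ (E₁ : X.Modules) (S₁ S₂ : ShortComplex X.Modules), S₁.ShortExact ∧ S₂.ShortExact ∧
      Nonempty (S₁.X₁ ≅ M₁) ∧ Nonempty (S₁.X₂ ≅ E) ∧ Nonempty (S₁.X₃ ≅ E₁) ∧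
      Nonempty (S₂.X₁ ≅ M₂) ∧ Nonempty (S₂.X₂ ≅ E₁) ∧ Nonempty (S₂.X₃ ≅ B) := by
  haveI : Mono f := hS.mono_f
  haveI : Epi g := hS.epi_g
  let l : M₁ ⟶ E := biprod.inl ≫ f
  let π := cokernel.π l
  have hlg : l ≫ g = 0 := by simp [l, w]
  let f' : M₂ ⟶ cokernel l := biprod.inr ≫ f ≫ π
  let g' : cokernel l ⟶ B := cokernel.desc l g hlg
  have hg' : π ≫ g' = g := cokernel.π_desc l g hlg
  have w' : f' ≫ g' = 0 := by simp [f', Category.assoc, hg', w]
  let S₁ := ShortComplex.mk l π (cokernel.condition l)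
  have hS₁ : S₁.Exact := ShortComplex.exact_of_g_is_cokernel _ (cokernelIsCokernel l)
  have hm : Mono f' := by
    rw [Preadditive.mono_iff_cancel_zero]
    intro A x hx
    obtain ⟨A', q, hq, y, hy⟩ := hS₁.exact_up_to_refinements (x ≫ biprod.inr ≫ f)
      (by simpa [S₁, f', Category.assoc] using hx)
    have e : q ≫ x ≫ biprod.inr = y ≫ biprod.inl := by
      rw [← cancel_mono f]
      simpa [S₁, l, Category.assoc] using hy
    have e2 := congrArg (fun z => z ≫ biprod.snd) e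
    simp only [Category.assoc, biprod.inr_snd, biprod.inl_snd, comp_zero, Category.comp_id] at e2
    exact (cancel_epi q).1 (by rw [e2, comp_zero])
  have he : Epi g' := by
    haveI : Epi (π ≫ g') := by rw [hg']; infer_instance
    exact epi_of_epi π g'
  have hex : (ShortComplex.mk f' g' w').Exact := by
    rw [ShortComplex.exact_iff_exact_up_to_refinements]
    intro A x hx
    obtain ⟨A', q, hq, y, hy⟩ := surjective_up_to_refinements_of_epi π x
    have hyg : y ≫ g = 0 := by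
      rw [← hg', ← Category.assoc, ← hy, Category.assoc]
      exact (congrArg (q ≫ ·) hx).trans comp_zero
    obtain ⟨A'', q', hq', z, hz⟩ := hS.exact.exact_up_to_refinements y hyg
    refine ⟨A'', q' ≫ q, epi_comp _ _, z ≫ biprod.snd, ?_⟩
    change (q' ≫ q) ≫ x = (z ≫ biprod.snd) ≫ f'
    rw [Category.assoc, hy, ← Category.assoc q', hz]
    change (z ≫ f) ≫ π = _
    conv_lhs => rw [← Category.comp_id z, ← biprod.total]
    simp only [f', Preadditive.comp_add, Preadditive.add_comp, Category.assoc]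
    rw [show (biprod.inl ≫ f ≫ π : M₁ ⟶ _) = 0 by
      rw [← Category.assoc]; exact cokernel.condition l, comp_zero, comp_zero, zero_add]
  exact ⟨_, S₁, ShortComplex.mk f' g' w',
    { exact := hS₁, mono_f := mono_comp _ _, epi_g := inferInstanceAs (Epi (cokernel.π l)) },
    { exact := hex, mono_f := hm, epi_g := he },
    ⟨Iso.refl _⟩, ⟨Iso.refl _⟩, ⟨Iso.refl _⟩, ⟨Iso.refl _⟩, ⟨Iso.refl _⟩, ⟨Iso.refl _⟩⟩

end Ext

variable {k : Type u} [Field k] {N : ℕ} {Y : Scheme.{u}} [Y.Over (Spec (CommRingCat.of k))]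
  (ι : Y ⟶ CohB1.ProjSpace N k)

/-- `⋀ᵖE(t)`. -/
noncomputable abbrev twExt (E : Y.Modules) (p : ℕ) (t : ℤ) : Y.Modules :=
  (DCoh.tensorRightMod ((Scheme.Modules.pullback ι).obj (Twist.twistProjSpace N k t))).obj
    (Groth.LocFree.extPow p E)

local notation "T(" E ", " p ", " t ")" => twExt ι E p t

theorem isInvertible_pullTwist (t : ℤ) :
    PicF.IsInvertible ((Scheme.Modules.pullback ι).obj (Twist.twistProjSpace N k t)) :=
  isInvertible_pullback _ (Groth.PnCoh.isInvertible_twist N k t)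

/-- The behaviour of the cohomology of `⋀ᵖE(t)` for `i + p < n` and `t ≤ 0`. -/
structure Low (E : Y.Modules) (n : ℕ) : Prop where
  vanish : ∀ (p i : ℕ) (t : ℤ), i + p < n → t ≤ 0 → ¬ (t = 0 ∧ i = p) →
    Subsingleton (Coh.HH Y (twExt ι E p t) i)
  diag : ∀ p : ℕ, p + p < n → Nonempty (Coh.HH Y (twExt ι E p 0) p ≃ₗ[k] k)

/-- The behaviour of the cohomology of `⋀ᵖE(t)` for `i + p > n + c` and `t ≥ A`. -/
structure High (E : Y.Modules) (n c : ℕ) (A : ℤ) : Prop where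
  zero : ∀ p : ℕ, N < p → IsZero (Groth.LocFree.extPow p E)
  vanish : ∀ (p i : ℕ) (t : ℤ), n + c < i + p → A ≤ t → ¬ (t = A ∧ i + c = p) →
    Subsingleton (Coh.HH Y (twExt ι E p t) i)
  diag : ∀ i p : ℕ, i + c = p → n + c < i + p → i ≤ n →
    Nonempty (Coh.HH Y (twExt ι E p A) i ≃ₗ[k] k)

include ι in
theorem subsingleton_of_isZero {M : Y.Modules} (h : IsZero M) (i : ℕ) :
    Subsingleton (Coh.HH Y M i) := by
  refine subsingleton_of_forall_eq 0 fun x => ?_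
  have e : (EulerDeg.hMap k (𝟙 M) i) x = x := by rw [EulerDeg.hMap_id]; rfl
  rw [(IsZero.iff_id_eq_zero _).1 h, Groth.Duality.hMap_zero, LinearMap.zero_apply] at e
  exact e.symm

/-- The exterior power sequence, twisted. -/
theorem exists_twSeq {a : ℕ} {S : ShortComplex Y.Modules} (hS : S.ShortExact)
    (e₁ : S.X₁ ≅ (Scheme.Modules.pullback ι).obj (Twist.twistProjSpace N k (-(a : ℤ))))
    (h₂ : FlatMod.IsFinLocFree S.X₂) (h₃ : FlatMod.IsFinLocFree S.X₃) (p : ℕ) (t : ℤ) :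
    ∃ U : ShortComplex Y.Modules, U.ShortExact ∧ Nonempty (U.X₁ ≅ T(S.X₃, p, t - (a : ℤ))) ∧
      Nonempty (U.X₂ ≅ T(S.X₂, p + 1, t)) ∧ Nonempty (U.X₃ ≅ T(S.X₃, p + 1, t)) := by
  have h₁ := Groth.LocFree.isFinLocFreeOfRank_of_iso e₁.symm
    (Groth.LocFree.isInvertible_iff_ofRank_one.1 (isInvertible_pullTwist ι _))
  obtain ⟨T, hT, ⟨f1⟩, ⟨f2⟩, ⟨f3⟩⟩ := exists_wedgeSeq S hS h₁ h₂ h₃ p
  let O := fun s : ℤ => (Scheme.Modules.pullback ι).obj (Twist.twistProjSpace N k s)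
  obtain ⟨b, -⟩ := exists_braiding (O (-(a : ℤ))) (Groth.LocFree.extPow p S.X₃)
  obtain ⟨al, -⟩ := exists_associator (Groth.LocFree.extPow p S.X₃) (O (-(a : ℤ))) (O t)
  obtain ⟨ep, -⟩ := exists_pullback_tensorMod ι (Twist.twistProjSpace N k (-(a : ℤ)))
    (Twist.twistProjSpace N k t)
  obtain ⟨et⟩ := Groth.Duality.Pn.nonempty_twist_tensor N k (-(a : ℤ)) t
  exact ⟨T.map (DCoh.tensorRightMod (O t)), shortExact_tensorRightMod (isInvertible_pullTwist ι t) hT,
    ⟨(DCoh.tensorRightMod (O t)).mapIso (f1 ≪≫ PicGrp.tensorModIso e₁ (Iso.refl _) ≪≫ b) ≪≫ al ≪≫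
      PicGrp.tensorModIso (Iso.refl _) (ep.symm ≪≫ (Scheme.Modules.pullback ι).mapIso
        (et ≪≫ eqToIso (congrArg (Twist.twistProjSpace N k) (by ring))))⟩,
    ⟨(DCoh.tensorRightMod (O t)).mapIso f2⟩, ⟨(DCoh.tensorRightMod (O t)).mapIso f3⟩⟩

theorem nonempty_twExt_zero {E E' : Y.Modules} (hE : FlatMod.IsFinLocFree E)
    (hE' : FlatMod.IsFinLocFree E') (t : ℤ) : Nonempty (T(E, 0, t) ≅ T(E', 0, t)) := by
  haveI := KTheory.LocFree.isQCoh hE
  haveI := KTheory.LocFree.isQCoh hE'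
  obtain ⟨a⟩ := KTheory.LambdaVb.nonempty_extPow_zero E
  obtain ⟨b⟩ := KTheory.LambdaVb.nonempty_extPow_zero E'
  exact ⟨(DCoh.tensorRightMod _).mapIso (a ≪≫ b.symm)⟩

/-- The property below the dimension passes to the quotient. -/
theorem low_step {n a : ℕ} (ha : 0 < a) {S : ShortComplex Y.Modules} (hS : S.ShortExact)
    (e₁ : S.X₁ ≅ (Scheme.Modules.pullback ι).obj (Twist.twistProjSpace N k (-(a : ℤ))))
    (h₂ : FlatMod.IsFinLocFree S.X₂) (h₃ : FlatMod.IsFinLocFree S.X₃)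
    (hE : Low ι S.X₂ n) : Low ι S.X₃ n := by
  suffices key : ∀ p, (∀ (i : ℕ) (t : ℤ), i + p < n → t ≤ 0 → ¬ (t = 0 ∧ i = p) →
      Subsingleton (Coh.HH Y T(S.X₃, p, t) i)) ∧
      (p + p < n → Nonempty (Coh.HH Y T(S.X₃, p, (0 : ℤ)) p ≃ₗ[k] k)) from
    ⟨fun p => (key p).1, fun p => (key p).2⟩
  intro p
  induction p with
  | zero =>
    refine ⟨fun i t h ht hne => ?_, fun h => ?_⟩
    · obtain ⟨e⟩ := nonempty_twExt_zero ι h₃ h₂ t
      exact PnCI.subsingleton_congr e i (hE.vanish 0 i t h ht hne)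
    · obtain ⟨e⟩ := nonempty_twExt_zero ι h₃ h₂ 0
      obtain ⟨d⟩ := hE.diag 0 h
      exact ⟨(EulerDeg.hEquiv k e 0).trans d⟩
  | succ p ih =>
    refine ⟨fun i t h ht hne => ?_, fun h => ?_⟩
    · obtain ⟨U, hU, ⟨f1⟩, ⟨f2⟩, ⟨f3⟩⟩ := exists_twSeq ι hS e₁ h₂ h₃ p t
      exact PnCI.subsingleton_congr f3.symm i (subsingleton_right k hU i
        (PnCI.subsingleton_congr f2 i (hE.vanish (p + 1) i t h ht hne))
        (PnCI.subsingleton_congr f1 (i + 1) (ih.1 (i + 1) _ (by omega) (by omega) (by omega))))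
    · obtain ⟨U, hU, ⟨f1⟩, ⟨f2⟩, ⟨f3⟩⟩ := exists_twSeq ι hS e₁ h₂ h₃ p 0
      obtain ⟨d⟩ := hE.diag (p + 1) h
      obtain ⟨e⟩ := nonempty_equiv_right k hU (p + 1)
        (PnCI.subsingleton_congr f1 (p + 1) (ih.1 (p + 1) _ (by omega) (by omega) (by omega)))
        (PnCI.subsingleton_congr f1 (p + 1 + 1)
          (ih.1 (p + 1 + 1) _ (by omega) (by omega) (by omega)))
      exact ⟨((EulerDeg.hEquiv k f3.symm (p + 1)).trans e.symm).trans
        ((EulerDeg.hEquiv k f2 (p + 1)).trans d)⟩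

/-- The property above the dimension passes to the quotient. -/
theorem high_step {n c a : ℕ} (ha : 0 < a) (hn : n + c ≤ N) {A : ℤ} {S : ShortComplex Y.Modules}
    (hS : S.ShortExact)
    (e₁ : S.X₁ ≅ (Scheme.Modules.pullback ι).obj (Twist.twistProjSpace N k (-(a : ℤ))))
    (h₂ : FlatMod.IsFinLocFree S.X₂) (h₃ : FlatMod.IsFinLocFree S.X₃)
    (hE : High ι S.X₂ n (c + 1) (A + a)) : High ι S.X₃ n c A := by
  have hz : ∀ p : ℕ, N < p → IsZero (Groth.LocFree.extPow p S.X₃) := fun p hp => by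
    obtain ⟨q, rfl⟩ : ∃ q, p = q + 1 := ⟨p - 1, by omega⟩
    have h₁ := Groth.LocFree.isFinLocFreeOfRank_of_iso e₁.symm
      (Groth.LocFree.isInvertible_iff_ofRank_one.1 (isInvertible_pullTwist ι _))
    obtain ⟨T, hT, -, ⟨f2⟩, ⟨f3⟩⟩ := exists_wedgeSeq S hS h₁ h₂ h₃ q
    haveI := hT.epi_g
    exact (IsZero.of_epi T.g ((hE.zero _ hp).of_iso f2)).of_iso f3.symm
  suffices key : ∀ m p, N < p + m → (∀ (i : ℕ) (t : ℤ), n + c < i + p → A ≤ t →
      ¬ (t = A ∧ i + c = p) → Subsingleton (Coh.HH Y T(S.X₃, p, t) i)) ∧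
      (∀ i, i + c = p → n + c < i + p → i ≤ n →
        Nonempty (Coh.HH Y T(S.X₃, p, A) i ≃ₗ[k] k)) from
    ⟨hz, fun p => (key (N + 1) p (by omega)).1,
      fun i p => (key (N + 1) p (by omega)).2 i⟩
  intro m
  induction m with
  | zero =>
    intro p hp
    exact ⟨fun i t _ _ _ => subsingleton_of_isZero ι (Functor.map_isZero _ (hz p (by omega))) i,
      fun i h h' h'' => absurd hp (by omega)⟩
  | succ m ih =>
    intro p hp
    have ih' := ih (p + 1) (by omega)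
    refine ⟨fun i t h ht hne => ?_, fun i hi h hin => ?_⟩
    · obtain ⟨U, hU, ⟨f1⟩, ⟨f2⟩, ⟨f3⟩⟩ := exists_twSeq ι hS e₁ h₂ h₃ p (t + a)
      let g1 : U.X₁ ≅ T(S.X₃, p, t) := f1 ≪≫ eqToIso (by rw [add_sub_cancel_right])
      refine PnCI.subsingleton_congr g1.symm i ?_
      have hX2 := PnCI.subsingleton_congr f2 i
        (hE.vanish (p + 1) i (t + a) (by omega) (by omega) (by omega))
      cases i with
      | zero => exact (EulerDeg.injective_zero k hU).subsingleton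
      | succ j =>
        exact subsingleton_left k hU j hX2 (PnCI.subsingleton_congr f3 j
          (ih'.1 j (t + a) (by omega) (by omega) (by omega)))
    · obtain ⟨U, hU, ⟨f1⟩, ⟨f2⟩, ⟨f3⟩⟩ := exists_twSeq ι hS e₁ h₂ h₃ p (A + a)
      let g1 : U.X₁ ≅ T(S.X₃, p, A) := f1 ≪≫ eqToIso (by rw [add_sub_cancel_right])
      obtain ⟨j, rfl⟩ : ∃ j, i = j + 1 := ⟨i - 1, by omega⟩
      obtain ⟨d⟩ := hE.diag (j + 1) (p + 1) (by omega) (by omega) hin
      obtain ⟨e⟩ := nonempty_equiv_left k hU j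
        (PnCI.subsingleton_congr f3 j (ih'.1 j (A + a) (by omega) (by omega) (by omega)))
        (PnCI.subsingleton_congr f3 (j + 1) (ih'.1 (j + 1) (A + a) (by omega) (by omega) (by omega)))
      exact ⟨((EulerDeg.hEquiv k g1.symm (j + 1)).trans e).trans
        ((EulerDeg.hEquiv k f2 (j + 1)).trans d)⟩

theorem Low.of_iso {E E' : Y.Modules} {n : ℕ} (e : E ≅ E') (h : Low ι E n) : Low ι E' n := by
  let ε := fun p t => (DCoh.tensorRightMod ((Scheme.Modules.pullback ι).obj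
    (Twist.twistProjSpace N k t))).mapIso (Groth.LocFree.extIso p e)
  refine ⟨fun p i t h1 h2 h3 => PnCI.subsingleton_congr (ε p t).symm i (h.vanish p i t h1 h2 h3),
    fun p hp => ?_⟩
  obtain ⟨d⟩ := h.diag p hp
  exact ⟨(EulerDeg.hEquiv k (ε p 0).symm p).trans d⟩

theorem High.of_iso {E E' : Y.Modules} {n c : ℕ} {A : ℤ} (e : E ≅ E') (h : High ι E n c A) :
    High ι E' n c A := by
  let ε := fun p t => (DCoh.tensorRightMod ((Scheme.Modules.pullback ι).obj
    (Twist.twistProjSpace N k t))).mapIso (Groth.LocFree.extIso p e)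
  refine ⟨fun p hp => (h.zero p hp).of_iso (Groth.LocFree.extIso p e).symm,
    fun p i t h1 h2 h3 => PnCI.subsingleton_congr (ε p t).symm i (h.vanish p i t h1 h2 h3),
    fun i p h1 h2 h3 => ?_⟩
  obtain ⟨d⟩ := h.diag i p h1 h2 h3
  exact ⟨(EulerDeg.hEquiv k (ε p A).symm i).trans d⟩

/-- Both properties pass to the quotient by a sum of negative twists. -/
theorem of_sum {n : ℕ} : ∀ (r : ℕ) (b : Fin r → ℕ), (∀ j, 0 < b j) → n + r ≤ N + 1 →
    ∀ S : ShortComplex Y.Modules, S.ShortExact →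
      (S.X₁ ≅ ∐ fun j : Fin r =>
        (Scheme.Modules.pullback ι).obj (Twist.twistProjSpace N k (-(b j : ℤ)))) →
      FlatMod.IsFinLocFree S.X₂ → FlatMod.IsFinLocFree S.X₃ →
      Low ι S.X₂ n → High ι S.X₂ n r (∑ j, (b j : ℤ)) → Low ι S.X₃ n ∧ High ι S.X₃ n 0 0 := by
  intro r
  induction r with
  | zero =>
    intro b _ _ S hS e _ _ hL hH
    rw [Finset.univ_eq_empty, Finset.sum_empty] at hH
    have hz : IsZero S.X₁ := ((IsZero.iff_id_eq_zero _).2
      (Sigma.hom_ext _ _ fun i => i.elim0)).of_iso e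
    haveI := hS.mono_f
    haveI := hS.epi_g
    haveI : IsIso S.g := hS.isIso_g_iff.2 hz
    exact ⟨hL.of_iso ι (asIso S.g), hH.of_iso ι (asIso S.g)⟩
  | succ r ih =>
    intro b hb hn S hS e h₂ h₃ hL hH
    let M : Fin r → Y.Modules := fun j =>
      (Scheme.Modules.pullback ι).obj (Twist.twistProjSpace N k (-(b j.succ : ℤ)))
    let σ := (e ≪≫ PnHyper.sigmaSucc fun j : Fin (r + 1) =>
        (Scheme.Modules.pullback ι).obj (Twist.twistProjSpace N k (-(b j : ℤ)))).symm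
    have w : (σ.hom ≫ S.f) ≫ S.g = 0 := by rw [Category.assoc, S.zero, comp_zero]
    have hS' : (ShortComplex.mk (σ.hom ≫ S.f) S.g w).ShortExact :=
      ShortComplex.shortExact_of_iso (ShortComplex.isoMk σ.symm (Iso.refl _) (Iso.refl _)
        (by simp) (by simp)) hS
    obtain ⟨E₁, S₁, S₂, hS₁, hS₂, ⟨a1⟩, ⟨a2⟩, ⟨a3⟩, ⟨c1⟩, ⟨c2⟩, ⟨c3⟩⟩ :=
      exists_peel (σ.hom ≫ S.f) S.g w hS'
    have hM : FlatMod.IsFinLocFree S₂.X₁ := KTheory.LocFree.isFinLocFree_of_iso c1.symm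
      (Groth.LocFree.isFinLocFree_of_rank (PnHyper.isFinLocFreeOfRank_sigma M fun j =>
        Groth.LocFree.isInvertible_iff_ofRank_one.1 (isInvertible_pullTwist ι _)))
    have hE₁ : FlatMod.IsFinLocFree S₂.X₂ := KTheory.LocFree.isFinLocFree_of_shortExact hS₂ hM
      (KTheory.LocFree.isFinLocFree_of_iso c3.symm h₃)
    have hX₂ : FlatMod.IsFinLocFree S₁.X₂ := KTheory.LocFree.isFinLocFree_of_iso a2.symm h₂
    have hX₃ : FlatMod.IsFinLocFree S₁.X₃ :=
      KTheory.LocFree.isFinLocFree_of_iso (c2 ≪≫ a3.symm) hE₁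
    have hsum : (∑ j, (b j : ℤ)) = (∑ j : Fin r, (b j.succ : ℤ)) + (b 0 : ℤ) := by
      rw [Fin.sum_univ_succ, add_comm]
    have hL' := low_step ι (hb 0) hS₁ a1 hX₂ hX₃ (hL.of_iso ι a2.symm)
    have hH' := high_step ι (A := ∑ j : Fin r, (b j.succ : ℤ)) (c := r) (n := n) (hb 0) (by omega) hS₁ a1
      hX₂ hX₃ (by rw [← hsum]; exact hH.of_iso ι a2.symm)
    obtain ⟨hL'', hH''⟩ := ih (fun j => b j.succ) (fun j => hb j.succ) (by omega) S₂ hS₂
      c1 hE₁ (KTheory.LocFree.isFinLocFree_of_iso c3.symm h₃)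
      (hL'.of_iso ι (a3 ≪≫ c2.symm)) (hH'.of_iso ι (a3 ≪≫ c2.symm))
    exact ⟨hL''.of_iso ι c3, hH''.of_iso ι c3⟩

end Groth.PnHodgeCI
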