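import Groth.Agent.PnHodgeCI.Euler

/-!
# The χ_y genera of smooth hypersurfaces
-/

set_option linter.style.haveILetI false
set_option backward.isDefEq.respectTransparency.types false

universe u

open CategoryTheory CategoryTheory.Limits AlgebraicGeometry TopologicalSpace

namespace Groth.PnHodgeCI

variable {k : Type u} [Field k]

/-- The data feeding the generating series, for hypersurfaces given by their ideals. -/
theorem euler_omega_rec' {n a : ℕ} (ha : 0 < a) (G : LefPen.Form (n + 1) k a)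
    (I : (CohB1.ProjSpace (n + 1) k).IdealSheafData)
    (hI : LefPen.ciIdeal (fun _ : Fin 1 => G) = I)
    [SmoothOfRelativeDimension n (I.subschemeι ≫ CohB1.ProjSpace.toSpec (n + 1) k)]
    [I.subscheme.Over (Spec (CommRingCat.of k))]
    (hι : I.subscheme ↘ Spec (CommRingCat.of k) =
      I.subschemeι ≫ CohB1.ProjSpace.toSpec (n + 1) k)
    (w : ℕ → ℤ → ℤ) (hw : ∀ p t, w p t = Curv2.euler k I.subscheme (twExt I.subschemeι
        (Omega.sheaf (I.subschemeι ≫ CohB1.ProjSpace.toSpec (n + 1) k)) p t)) :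
    (∀ t : ℤ, w 0 t = chiP k (n + 1) 0 t - chiP k (n + 1) 0 (t - (a : ℤ))) ∧
    (∀ (p : ℕ) (t : ℤ), w (p + 1) t + w p (t - (a : ℤ)) =
      chiP k (n + 1) (p + 1) t - chiP k (n + 1) (p + 1) (t - (a : ℤ))) ∧
    (∀ (p : ℕ) (t : ℤ), n < p → w p t = 0) := by
  subst hI
  exact euler_omega_rec (a := fun _ : Fin 1 => a) (fun _ => ha) (fun _ => G) hι w hw

/-- `χ(Y, Ω^p)` as a sum up to the dimension. -/
theorem sum_finrank_eq_euler {N n : ℕ} {Y : Scheme.{u}} [Y.Over (Spec (CommRingCat.of k))]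
    (ι : Y ⟶ CohB1.ProjSpace N k) [IsClosedImmersion ι]
    [SmoothOfRelativeDimension n (ι ≫ CohB1.ProjSpace.toSpec N k)] {L : Y.Modules} {p : ℕ}
    (hL : ExtPow.IsExtPow p (Omega.sheaf (ι ≫ CohB1.ProjSpace.toSpec N k)) L) :
    ∑ q ∈ Finset.range (n + 1), (-1 : ℤ) ^ q * (Module.finrank k (Coh.HH Y L q) : ℤ) =
      Curv2.euler k Y (twExt ι (Omega.sheaf (ι ≫ CohB1.ProjSpace.toSpec N k)) p 0) := by
  obtain ⟨e⟩ := nonempty_twExt_one ι L hL
  rw [EulerDeg.euler_congr k e]
  exact (EulerDeg.euler_eq_sum fun q hq => Duality.Closed.subsingleton_HH_of_lt ι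
    (Duality.SmoothDual.topologicalKrullDim_le (ι ≫ CohB1.ProjSpace.toSpec N k) n) L hq).symm

end Groth.PnHodgeCI
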