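import Groth.Agent.PnHodgeCI.Filt
import Groth.Agent.PnCI.Top
import Groth.Agent.PnCI.Conormal
import Groth.Agent.Duality.FundLocal.SmoothImm
import Groth.Agent.Duality.SmoothDual
import Groth.Agent.LocFree.ExtPullback

/-!
# The Hodge cohomology of smooth complete intersections
-/

set_option linter.style.haveILetI false
set_option backward.isDefEq.respectTransparency.types false

universe u

open CategoryTheory CategoryTheory.Limits AlgebraicGeometry TopologicalSpace
open Groth.PicAux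

namespace Groth.PnHodgeCI

variable {k : Type u} [Field k] {N : ℕ}

local notation "ℙ" => CohB1.ProjSpace N k
local notation "π₀" => CohB1.ProjSpace.toSpec N k

theorem good_of_smooth {r n : ℕ} (hN : n + r = N) {a : Fin r → ℕ} (ha : ∀ j, 0 < a j)
    (G : ∀ j, LefPen.Form N k (a j))
    [SmoothOfRelativeDimension n ((LefPen.ciIdeal G).subschemeι ≫ π₀)] : PnCI.Good G := by
  refine ⟨by omega, fun y hy => ?_⟩
  have hy' := (PnCI.mem_ci_support_iff ha G).2 hy
  rw [← SetLike.mem_coe, ← Scheme.IdealSheafData.range_subschemeι] at hy'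
  obtain ⟨z, hz⟩ := hy'
  have h1 := Variety2.Dim.height_eq_of_isPreimmersion
    ((LefPen.ciIdeal G).subschemeι ≫ π₀) π₀ (LefPen.ciIdeal G).subschemeι rfl z
  have h2 : Order.height z ≤ ((n : ℕ) : ℕ∞) :=
    WithBot.coe_le_coe.1 (((le_iSup (fun x => ((Order.height x : ℕ∞) : WithBot ℕ∞)) z).trans_eq
      (Variety2.Dim.dim_eq_iSup_height _).symm).trans
        (Duality.SmoothDual.topologicalKrullDim_le ((LefPen.ciIdeal G).subschemeι ≫ π₀) n))
  have h3 : Variety2.PSpace.ht y ≤ ((n : ℕ) : ℕ∞) := by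
    refine le_of_eq_of_le ?_ h2
    rw [← hz]
    exact h1
  refine (add_le_add h3 le_rfl).trans ?_
  exact_mod_cast hN.le

variable {Y : Scheme.{u}} [Y.Over (Spec (CommRingCat.of k))] (ι : Y ⟶ CohB1.ProjSpace N k)
  [IsClosedImmersion ι]

/-- Exterior powers of the restricted differentials are restrictions. -/
theorem nonempty_twExt_pullback (q : ℕ) (t : ℤ) :
    Nonempty (twExt ι ((Scheme.Modules.pullback ι).obj (Omega.sheaf π₀)) q t ≅
      (Scheme.Modules.pullback ι).obj (PnHodge.omegaTw N k q t)) := by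
  haveI := Groth.PnEuler.isQCoh_omega (n := N) (R := k)
  obtain ⟨e⟩ := Groth.LocFree.nonempty_iso_extPow (Groth.LocFree.isExtPow_pullback ι
    (Groth.LocFree.isExtPow_extPow q (Omega.sheaf π₀)))
  obtain ⟨ep, -⟩ := exists_pullback_tensorMod ι (Groth.LocFree.extPow q (Omega.sheaf π₀))
    (Twist.twistProjSpace N k t)
  exact ⟨PicGrp.tensorModIso e (Iso.refl _) ≪≫ ep.symm⟩

theorem nonempty_equiv_rest (hι : Y ↘ Spec (CommRingCat.of k) = ι ≫ π₀) (F : (ℙ).Modules) (q : ℕ) :
    Nonempty (Coh.HH Y ((Scheme.Modules.pullback ι).obj F) q ≃ₗ[k]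
      Coh.HH ℙ (PnCI.rest ι F) q) := by
  obtain ⟨e⟩ := Groth.CohC3.nonempty_linearEquiv_push_closed ι π₀ q ((Scheme.Modules.pullback ι).obj F)
  rename_i hY _
  obtain ⟨s⟩ := hY
  change s = ι ≫ π₀ at hι
  subst hι
  exact ⟨e.symm⟩

theorem nonempty_twExt_one (L : Y.Modules) {E : Y.Modules} [E.IsQuasicoherent] {p : ℕ} (hL : ExtPow.IsExtPow p E L) :
    Nonempty (twExt ι E p 0 ≅ L) := by
  obtain ⟨e⟩ := Groth.LocFree.nonempty_iso_extPow hL
  obtain ⟨z⟩ := pullback_structure_iso ι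
  exact ⟨PicGrp.tensorModIso e ((Scheme.Modules.pullback ι).mapIso (PnHodge.zeroIso N k) ≪≫ z) ≪≫
    SecTwist.unitorR L⟩

variable {r n : ℕ} {a : Fin r → ℕ} (ha : ∀ j, 0 < a j) (G : ∀ j, LefPen.Form N k (a j))

include ha in
/-- The properties of the restricted differentials. -/
theorem low_high_base (hN : n + r = N) (h : PnCI.Good G)
    [(LefPen.ciIdeal G).subscheme.Over (Spec (CommRingCat.of k))]
    (hι : (LefPen.ciIdeal G).subscheme ↘ Spec (CommRingCat.of k) =
      (LefPen.ciIdeal G).subschemeι ≫ π₀) :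
    Low (LefPen.ciIdeal G).subschemeι
        ((Scheme.Modules.pullback (LefPen.ciIdeal G).subschemeι).obj (Omega.sheaf π₀)) n ∧
      High (LefPen.ciIdeal G).subschemeι
        ((Scheme.Modules.pullback (LefPen.ciIdeal G).subschemeι).obj (Omega.sheaf π₀)) n r
        (∑ j, (a j : ℤ)) := by
  set i₀ := (LefPen.ciIdeal G).subschemeι
  obtain ⟨hlv, hld⟩ := low (n := N) r a ha G h
  obtain ⟨hhv, hhd⟩ := high (n := N) r a ha G h
  have tr : ∀ q i t, Subsingleton (Coh.HH ℙ (PnCI.rest i₀ (PnHodge.omegaTw N k q t)) i) →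
      Subsingleton (Coh.HH _ (twExt i₀ ((Scheme.Modules.pullback i₀).obj (Omega.sheaf π₀)) q t) i) :=
    fun q i t hs => by
      obtain ⟨e⟩ := nonempty_twExt_pullback i₀ q t
      exact PnCI.subsingleton_congr e i ((PnCI.subsingleton_rest_iff i₀ _ i).1 hs)
  have tr' : ∀ q i t, Nonempty (Coh.HH ℙ (PnCI.rest i₀ (PnHodge.omegaTw N k q t)) i ≃ₗ[k] k) →
      Nonempty (Coh.HH _ (twExt i₀ ((Scheme.Modules.pullback i₀).obj (Omega.sheaf π₀)) q t) i ≃ₗ[k] k) :=
    fun q i t hs => by
      obtain ⟨e⟩ := nonempty_twExt_pullback i₀ q t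
      obtain ⟨d⟩ := nonempty_equiv_rest i₀ hι (PnHodge.omegaTw N k q t) i
      exact ⟨((EulerDeg.hEquiv k e i).trans d).trans hs.some⟩
  refine ⟨⟨fun p i t h1 h2 h3 => tr p i t (hlv p i t (by omega) h2 h3),
    fun p hp => tr' p p 0 (hld p (by omega))⟩, ⟨fun p hp => ?_, fun p i t h1 h2 h3 => ?_,
    fun i p h1 h2 h3 => ?_⟩⟩
  · haveI := Groth.PnEuler.isQCoh_omega (n := N) (R := k)
    obtain ⟨e⟩ := Groth.LocFree.nonempty_iso_extPow (Groth.LocFree.isExtPow_pullback i₀
      (Groth.LocFree.isExtPow_extPow p (Omega.sheaf π₀)))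
    refine IsZero.of_iso ?_ e
    haveI := (Scheme.Modules.pullbackPushforwardAdjunction i₀).left_adjoint_additive
    refine Functor.map_isZero _ (Groth.KTheory.KvbModel.isZero_of_rank_zero ?_)
    have h0 := Groth.LocFree.isFinLocFreeOfRank_extPow
      (PnEuler.isFinLocFreeOfRank_omega (n := N) (R := k)) p
    rwa [Nat.choose_eq_zero_of_lt hp] at h0
  · rcases Nat.eq_zero_or_pos i with rfl | hi
    · refine tr p 0 t (subsingleton_of_isZero (𝟙 ℙ) ?_ 0)
      haveI := (Scheme.Modules.pullbackPushforwardAdjunction i₀).left_adjoint_additive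
      haveI := (Scheme.Modules.pullbackPushforwardAdjunction i₀).right_adjoint_additive
      exact Functor.map_isZero _ (Functor.map_isZero _ (PnHodge.isZero_omegaTw N k (by omega) t))
    · exact tr p i t (hhv p i t hi h2 h3)
  · subst h1
    exact tr' _ i _ (hhd i (by omega) (by omega))

include ha in
/-- The properties of the differentials of a smooth complete intersection. -/
theorem low_high (hN : n + r = N)
    [SmoothOfRelativeDimension n ((LefPen.ciIdeal G).subschemeι ≫ π₀)]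
    [(LefPen.ciIdeal G).subscheme.Over (Spec (CommRingCat.of k))]
    (hι : (LefPen.ciIdeal G).subscheme ↘ Spec (CommRingCat.of k) =
      (LefPen.ciIdeal G).subschemeι ≫ π₀) :
    Low (LefPen.ciIdeal G).subschemeι (Omega.sheaf ((LefPen.ciIdeal G).subschemeι ≫ π₀)) n ∧
      High (LefPen.ciIdeal G).subschemeι
        (Omega.sheaf ((LefPen.ciIdeal G).subschemeι ≫ π₀)) n 0 0 := by
  set i₀ := (LefPen.ciIdeal G).subschemeι
  have h := good_of_smooth hN ha G
  obtain ⟨hL, hH⟩ := low_high_base ha G hN h hι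
  haveI := Groth.Duality.Pn.smooth_toSpec N k
  haveI : Smooth (i₀ ≫ π₀) := SmoothOfRelativeDimension.smooth n _
  obtain ⟨φ, c, w, hS⟩ := Groth.Duality.FundLocal.exists_conormal_ses π₀ (i₀ ≫ π₀) i₀ rfl
  obtain ⟨e⟩ := PnCI.nonempty_conormal ha G h
  exact of_sum i₀ r a ha (by omega) (ShortComplex.mk φ c w) hS e
    (Groth.LocFree.isFinLocFree_pullback i₀
      (Groth.LocFree.isFinLocFree_of_rank PnEuler.isFinLocFreeOfRank_omega))
    (Groth.LocFree.isFinLocFree_of_rank (Groth.OmegaSheaf.isFinLocFreeOfRank_sheaf (i₀ ≫ π₀) n))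
    hL hH

end Groth.PnHodgeCI
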